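import Mathlib

/-!
Arithmetic in a field of order four, and the data of a subgroup of order 660 of SU(5,2).
-/

set_option autoImplicit false

namespace CfsgLib.GeoPrime.Four

/-- Addition of codes. -/
def addT (a b : Fin 4) : Fin 4 :=
  ![![0, 1, 2, 3], ![1, 0, 3, 2], ![2, 3, 0, 1], ![3, 2, 1, 0]] a b

/-- Multiplication of codes. -/
def mulT (a b : Fin 4) : Fin 4 :=
  ![![0, 0, 0, 0], ![0, 1, 2, 3], ![0, 2, 3, 1], ![0, 3, 1, 2]] a b

/-- Matrices of codes. -/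
abbrev CM := Fin 5 → Fin 5 → Fin 4

/-- Products. -/
def mulM (A B : CM) : CM := fun i k =>
  addT (addT (addT (addT (mulT (A i 0) (B 0 k)) (mulT (A i 1) (B 1 k))) (mulT (A i 2) (B 2 k)))
    (mulT (A i 3) (B 3 k))) (mulT (A i 4) (B 4 k))

/-- Matrix times vector. -/
def mulV (A : CM) (v : Fin 5 → Fin 4) : Fin 5 → Fin 4 := fun i =>
  addT (addT (addT (addT (mulT (A i 0) (v 0)) (mulT (A i 1) (v 1))) (mulT (A i 2) (v 2)))
    (mulT (A i 3) (v 3))) (mulT (A i 4) (v 4))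

/-- Conjugate transpose. -/
def star (A : CM) : CM := fun i j => mulT (A j i) (A j i)

/-- The identity. -/
def oneM : CM := fun i j => if i = j then 1 else 0

/-- The number of a vector. -/
def code (v : Fin 5 → Fin 4) : ℕ :=
  (v 0).val + 4 * (v 1).val + 16 * (v 2).val + 64 * (v 3).val + 256 * (v 4).val

/-- The vector of a number. -/
def dec (c : ℕ) : Fin 5 → Fin 4 := fun i => ⟨c / 4 ^ (i : ℕ) % 4, Nat.mod_lt _ (by norm_num)⟩

/-- An element of order five. -/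
def Y0 : CM :=
  ![![3, 3, 2, 0, 0], ![1, 2, 2, 1, 2], ![1, 3, 1, 2, 3], ![2, 0, 1, 0, 2], ![3, 0, 2, 2, 0]]

/-- An involution. -/
def T0 : CM :=
  ![![0, 1, 1, 0, 2], ![1, 1, 2, 1, 1], ![1, 3, 1, 2, 3], ![0, 1, 3, 0, 3], ![3, 1, 2, 2, 1]]

/-- A diagonal element. -/
def D0 : CM := fun i j => if i = j then ![2, 3, 1, 1, 1] i else 0

/-- The powers of an element of order eleven. -/
def P0 : Fin 11 → CM :=
  ![![![1, 0, 0, 0, 0], ![0, 1, 0, 0, 0], ![0, 0, 1, 0, 0], ![0, 0, 0, 1, 0], ![0, 0, 0, 0, 1]],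
    ![![3, 2, 2, 0, 0], ![1, 1, 2, 3, 2], ![1, 1, 2, 2, 3], ![2, 3, 2, 0, 0], ![3, 3, 1, 3, 3]],
    ![![2, 1, 1, 2, 2], ![0, 2, 0, 1, 2], ![1, 2, 3, 2, 1], ![0, 2, 1, 1, 0], ![3, 3, 0, 2, 0]],
    ![![3, 3, 2, 0, 0], ![1, 0, 3, 0, 2], ![2, 1, 2, 3, 2], ![1, 0, 3, 3, 0], ![2, 3, 3, 2, 1]],
    ![![3, 0, 3, 1, 0], ![1, 0, 1, 0, 3], ![2, 3, 1, 1, 2], ![1, 3, 2, 1, 2], ![1, 1, 1, 0, 0]],
    ![![3, 1, 2, 1, 2], ![0, 1, 3, 0, 1], ![0, 3, 0, 1, 3], ![1, 1, 0, 0, 1], ![3, 2, 2, 1, 1]],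
    ![![2, 0, 0, 1, 2], ![1, 1, 2, 1, 3], ![3, 2, 0, 0, 3], ![1, 0, 1, 0, 1], ![3, 1, 2, 1, 1]],
    ![![2, 1, 3, 1, 1], ![0, 0, 2, 2, 1], ![2, 1, 1, 3, 1], ![1, 0, 1, 1, 0], ![0, 2, 3, 3, 0]],
    ![![2, 1, 3, 1, 3], ![2, 0, 1, 0, 2], ![3, 2, 3, 2, 2], ![0, 0, 2, 2, 3], ![0, 3, 3, 0, 1]],
    ![![3, 0, 1, 0, 2], ![1, 3, 3, 3, 2], ![1, 0, 2, 1, 0], ![3, 1, 3, 1, 3], ![3, 3, 1, 0, 0]],
    ![![2, 1, 1, 3, 2], ![3, 1, 1, 2, 2], ![3, 3, 3, 3, 1], ![0, 2, 3, 0, 2], ![0, 3, 2, 0, 2]]]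

/-- The inverse of the cyclic basis of the first vector. -/
def Ci : CM :=
  ![![1, 2, 2, 2, 0], ![0, 2, 0, 2, 0], ![0, 3, 1, 1, 0], ![0, 0, 1, 0, 2], ![0, 3, 1, 2, 2]]

/-- The orbit of 55 vectors. -/
def orbit : List ℕ :=
  [16, 70, 82, 113, 135, 145, 156, 203, 216, 236, 269, 275, 276, 324,
    342, 351, 381, 407, 413, 426, 442, 451, 469, 475, 493, 526, 530, 547,
    584, 602, 619, 633, 652, 661, 670, 679, 726, 729, 741, 757, 777, 792,
    820, 859, 862, 879, 895, 897, 921, 927, 951, 962, 986, 1006, 1014]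

/-- Invariance of the orbit. -/
def preserves (A : CM) : Bool := orbit.all fun c => orbit.contains (code (mulV A (dec c)))

theorem P0_zero : ∀ i j, P0 0 i j = oneM i j := by decide
theorem P0_succ : ∀ (a : Fin 11) i j, mulM (P0 a) (P0 1) i j = P0 (a + 1) i j := by decide +kernel
theorem P0_unit : ∀ i j, mulM (star (P0 1)) (P0 1) i j = oneM i j := by decide +kernel
theorem Y0_unit : ∀ i j, mulM (star Y0) Y0 i j = oneM i j := by decide +kernel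
theorem T0_unit : ∀ i j, mulM (star T0) T0 i j = oneM i j := by decide +kernel
theorem D0_unit : ∀ i j, mulM (star D0) D0 i j = oneM i j := by decide +kernel
theorem T0_sq : ∀ i j, mulM T0 T0 i j = oneM i j := by decide +kernel
theorem Y0_five : ∀ i j, mulM (mulM (mulM Y0 Y0) (mulM Y0 Y0)) Y0 i j = oneM i j := by decide +kernel
theorem Y0_conj : ∀ i j, mulM Y0 (P0 1) i j = mulM (P0 4) Y0 i j := by decide +kernel
theorem T0_not_normalising : ∀ a, ∃ i j, mulM T0 (P0 1) i j ≠ mulM (P0 a) T0 i j := by decide +kernel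
theorem P0_preserves : preserves (P0 1) = true := by decide +kernel
theorem Y0_preserves : preserves Y0 = true := by decide +kernel
theorem T0_preserves : preserves T0 = true := by decide +kernel
theorem D0_not_preserves : preserves D0 = false := by decide +kernel
theorem Ci_cyclic : ∀ i j, mulM (fun r c => P0 (c.castLE (by decide)) r 0) Ci i j = oneM i j := by decide +kernel
theorem P0_trace : ∀ a : Fin 11, addT (addT (addT (addT (P0 a 0 0) (P0 a 1 1)) (P0 a 2 2)) (P0 a 3 3)) (P0 a 4 4) =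
    addT (addT (addT (addT (P0 1 0 0) (P0 1 1 1)) (P0 1 2 2)) (P0 1 3 3)) (P0 1 4 4) →
    a = 1 ∨ a = 4 ∨ a = 5 ∨ a = 9 ∨ a = 3 := by decide +kernel

end CfsgLib.GeoPrime.Four
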